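import Cfsg.Agent.H511.Ore.Deg
import Cfsg.Agent.H792.M23.Co13
import Cfsg.Agent.S0399

/-!
# S4908: the residues modulo 13 of the degrees of `Co1` (helper334)
-/

set_option autoImplicit false

namespace Cfsg.Agent.H334.S8.Co1Thirteen

open Cfsg Subgroup
open Cfsg.Agent.H651.Two (CD)

/-- the column of an element of order 13 of `Co1` -/
def c13 : CD := ⟨13, 12, 12, 1, [(0, 0), (1, 1), (12, -1), (2, 2), (11, -2), (3, 3), (10, -3), (4, 4), (9, -4), (6, 6),
  (7, -6)], 0, false⟩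

theorem c13_ok : CD.ok 4157776806543360000 c13 = true := by decide +kernel

theorem has13 : c13.Has Cfsg.Spor.Co1 := by
  have hfin0 := CpAutBig.CoZero.finite_co0
  have hfin : Finite Cfsg.Spor.Co1 := inferInstance
  have hp : Fact (Nat.Prime 13) := ⟨by norm_num⟩
  obtain ⟨x, hx⟩ := exists_prime_orderOf_dvd_card' (G := Cfsg.Spor.Co1) 13 (by rw [H55.CoOneBd.card_co1]; norm_num)
  exact ⟨hp.out, x, hx, by rw [H792.M23.Co13.cent13 hx]; rfl⟩

theorem finite_co1 : Finite Cfsg.Spor.Co1 := by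
  have hfin0 := CpAutBig.CoZero.finite_co0
  infer_instance

theorem not_comm : ¬ IsMulCommutative Cfsg.Spor.Co1 := by
  have hs : IsSimpleGroup Cfsg.Spor.Co1 := Cfsg.Agent.S0399.result.1
  have hfin := finite_co1
  intro h
  have := h.is_comm
  let _ : CommGroup Cfsg.Spor.Co1 := { (inferInstance : Group Cfsg.Spor.Co1) with mul_comm := fun a b => this.comm a b }
  have hp : (Nat.card Cfsg.Spor.Co1).Prime := IsSimpleGroup.prime_card
  rw [H55.CoOneBd.card_co1] at hp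
  exact absurd hp (by norm_num)

/-- the residues modulo 13 of the degrees of `Co1` -/
theorem res13 (χ : IrrCharacter Cfsg.Spor.Co1) :
    charDegree (χ : Cfsg.Spor.Co1 → ℂ) % 13 ∈ [0, 1, 12, 2, 11, 3, 10, 4, 9, 6, 7] := by
  have hs : IsSimpleGroup Cfsg.Spor.Co1 := Cfsg.Agent.S0399.result.1
  have hfin := finite_co1
  have h1 := H511.Ore.res_of_has not_comm H55.CoOneBd.card_co1 has13 c13_ok χ
  obtain ⟨a, ha, h2⟩ := List.any_eq_true.1 h1
  have h4 : charDegree (χ : Cfsg.Spor.Co1 → ℂ) % 13 = a.1 := Nat.eq_of_beq_eq_true h2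
  rw [h4]
  have h3 : ∀ a ∈ c13.wl, a.1 ∈ [0, 1, 12, 2, 11, 3, 10, 4, 9, 6, 7] := by decide
  exact h3 _ ha

/-- a degree of `Co1` is not `5` or `8` modulo `13` -/
theorem no_five_eight (χ : IrrCharacter Cfsg.Spor.Co1) : charDegree (χ : Cfsg.Spor.Co1 → ℂ) % 13 ≠ 5 ∧
    charDegree (χ : Cfsg.Spor.Co1 → ℂ) % 13 ≠ 8 := by
  have h := res13 χ
  simp only [List.mem_cons, List.not_mem_nil, or_false] at h
  omega

theorem no_6336 (χ : IrrCharacter Cfsg.Spor.Co1) : charDegree (χ : Cfsg.Spor.Co1 → ℂ) ≠ 6336 := by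
  intro h
  exact (no_five_eight χ).1 (by rw [h])

end Cfsg.Agent.H334.S8.Co1Thirteen
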